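import Cfsg.Agent.Lib.J4Dce59.Chunk
import Cfsg.Agent.Lib.J4Dce59.Data.Main

/-! # Evaluation of the checker (Els) -/

set_option autoImplicit false
set_option maxRecDepth 100000
set_option maxHeartbeats 0

namespace Cfsg.Agent.Lib.J4Dce59.Check

open Data

theorem els_0 : chk (D.okEl) 0 400 = true := by decide +kernel

theorem els_1 : chk (D.okEl) 400 400 = true := by decide +kernel

theorem els_2 : chk (D.okEl) 800 400 = true := by decide +kernel

theorem els_3 : chk (D.okEl) 1200 400 = true := by decide +kernel

theorem els_4 : chk (D.okEl) 1600 400 = true := by decide +kernel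

theorem els_5 : chk (D.okEl) 2000 400 = true := by decide +kernel

theorem els_6 : chk (D.okEl) 2400 400 = true := by decide +kernel

theorem els_7 : chk (D.okEl) 2800 400 = true := by decide +kernel

theorem els_8 : chk (D.okEl) 3200 400 = true := by decide +kernel

theorem els_9 : chk (D.okEl) 3600 400 = true := by decide +kernel

theorem els_10 : chk (D.okEl) 4000 400 = true := by decide +kernel

theorem els_11 : chk (D.okEl) 4400 400 = true := by decide +kernel

theorem els_12 : chk (D.okEl) 4800 400 = true := by decide +kernel

theorem els_13 : chk (D.okEl) 5200 400 = true := by decide +kernel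

theorem els_14 : chk (D.okEl) 5600 400 = true := by decide +kernel

theorem els_15 : chk (D.okEl) 6000 400 = true := by decide +kernel

theorem els_16 : chk (D.okEl) 6400 27 = true := by decide +kernel

theorem els : Iv (D.okEl) 0 6427 :=
  (Iv.of_chk els_0)
    |>.join (Iv.of_chk els_1)
    |>.join (Iv.of_chk els_2)
    |>.join (Iv.of_chk els_3)
    |>.join (Iv.of_chk els_4)
    |>.join (Iv.of_chk els_5)
    |>.join (Iv.of_chk els_6)
    |>.join (Iv.of_chk els_7)
    |>.join (Iv.of_chk els_8)
    |>.join (Iv.of_chk els_9)
    |>.join (Iv.of_chk els_10)
    |>.join (Iv.of_chk els_11)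
    |>.join (Iv.of_chk els_12)
    |>.join (Iv.of_chk els_13)
    |>.join (Iv.of_chk els_14)
    |>.join (Iv.of_chk els_15)
    |>.join (Iv.of_chk els_16)

theorem ks_0 : chk (D.okK) 0 249 = true := by decide +kernel

theorem ks : Iv (D.okK) 0 249 :=
  (Iv.of_chk ks_0)

theorem move_0 : chk (okMove D C) 0 400 = true := by decide +kernel

theorem move_1 : chk (okMove D C) 400 400 = true := by decide +kernel

theorem move_2 : chk (okMove D C) 800 400 = true := by decide +kernel

theorem move_3 : chk (okMove D C) 1200 400 = true := by decide +kernel

theorem move_4 : chk (okMove D C) 1600 400 = true := by decide +kernel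

theorem move_5 : chk (okMove D C) 2000 400 = true := by decide +kernel

theorem move_6 : chk (okMove D C) 2400 400 = true := by decide +kernel

theorem move_7 : chk (okMove D C) 2800 400 = true := by decide +kernel

theorem move_8 : chk (okMove D C) 3200 400 = true := by decide +kernel

theorem move_9 : chk (okMove D C) 3600 400 = true := by decide +kernel

theorem move_10 : chk (okMove D C) 4000 400 = true := by decide +kernel

theorem move_11 : chk (okMove D C) 4400 400 = true := by decide +kernel

theorem move_12 : chk (okMove D C) 4800 400 = true := by decide +kernel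

theorem move_13 : chk (okMove D C) 5200 400 = true := by decide +kernel

theorem move_14 : chk (okMove D C) 5600 400 = true := by decide +kernel

theorem move_15 : chk (okMove D C) 6000 400 = true := by decide +kernel

theorem move_16 : chk (okMove D C) 6400 400 = true := by decide +kernel

theorem move_17 : chk (okMove D C) 6800 400 = true := by decide +kernel

theorem move_18 : chk (okMove D C) 7200 390 = true := by decide +kernel

theorem move : Iv (okMove D C) 0 7590 :=
  (Iv.of_chk move_0)
    |>.join (Iv.of_chk move_1)
    |>.join (Iv.of_chk move_2)
    |>.join (Iv.of_chk move_3)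
    |>.join (Iv.of_chk move_4)
    |>.join (Iv.of_chk move_5)
    |>.join (Iv.of_chk move_6)
    |>.join (Iv.of_chk move_7)
    |>.join (Iv.of_chk move_8)
    |>.join (Iv.of_chk move_9)
    |>.join (Iv.of_chk move_10)
    |>.join (Iv.of_chk move_11)
    |>.join (Iv.of_chk move_12)
    |>.join (Iv.of_chk move_13)
    |>.join (Iv.of_chk move_14)
    |>.join (Iv.of_chk move_15)
    |>.join (Iv.of_chk move_16)
    |>.join (Iv.of_chk move_17)
    |>.join (Iv.of_chk move_18)

theorem rep : rT D C 0 = one := by decide +kernel

theorem hchain : chainOK D.c hLevels = true ∧ chainProd hLevels = 501397585920 := by decide +kernel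

end Cfsg.Agent.Lib.J4Dce59.Check
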