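import Cfsg.Agent.Lib.J4Dce59.Chunk
import Cfsg.Agent.Lib.J4Dce59.Data.Main

/-! # Evaluation of the checker (Facts0) -/

set_option autoImplicit false
set_option maxRecDepth 100000
set_option maxHeartbeats 0

namespace Cfsg.Agent.Lib.J4Dce59.Check

open Data

theorem facts0_0 : chk (okFact D) 0 100 = true := by decide +kernel

theorem facts0_1 : chk (okFact D) 100 100 = true := by decide +kernel

theorem facts0_2 : chk (okFact D) 200 100 = true := by decide +kernel

theorem facts0_3 : chk (okFact D) 300 100 = true := by decide +kernel

theorem facts0_4 : chk (okFact D) 400 100 = true := by decide +kernel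

theorem facts0_5 : chk (okFact D) 500 100 = true := by decide +kernel

theorem facts0_6 : chk (okFact D) 600 100 = true := by decide +kernel

theorem facts0_7 : chk (okFact D) 700 100 = true := by decide +kernel

theorem facts0_8 : chk (okFact D) 800 100 = true := by decide +kernel

theorem facts0_9 : chk (okFact D) 900 100 = true := by decide +kernel

theorem facts0_10 : chk (okFact D) 1000 100 = true := by decide +kernel

theorem facts0_11 : chk (okFact D) 1100 100 = true := by decide +kernel

theorem facts0_12 : chk (okFact D) 1200 100 = true := by decide +kernel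

theorem facts0_13 : chk (okFact D) 1300 100 = true := by decide +kernel

theorem facts0_14 : chk (okFact D) 1400 100 = true := by decide +kernel

theorem facts0_15 : chk (okFact D) 1500 100 = true := by decide +kernel

theorem facts0_16 : chk (okFact D) 1600 100 = true := by decide +kernel

theorem facts0 : Iv (okFact D) 0 1700 :=
  (Iv.of_chk facts0_0)
    |>.join (Iv.of_chk facts0_1)
    |>.join (Iv.of_chk facts0_2)
    |>.join (Iv.of_chk facts0_3)
    |>.join (Iv.of_chk facts0_4)
    |>.join (Iv.of_chk facts0_5)
    |>.join (Iv.of_chk facts0_6)
    |>.join (Iv.of_chk facts0_7)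
    |>.join (Iv.of_chk facts0_8)
    |>.join (Iv.of_chk facts0_9)
    |>.join (Iv.of_chk facts0_10)
    |>.join (Iv.of_chk facts0_11)
    |>.join (Iv.of_chk facts0_12)
    |>.join (Iv.of_chk facts0_13)
    |>.join (Iv.of_chk facts0_14)
    |>.join (Iv.of_chk facts0_15)
    |>.join (Iv.of_chk facts0_16)

end Cfsg.Agent.Lib.J4Dce59.Check
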