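import Cfsg.Agent.Lib.J4Dce59.Chunk
import Cfsg.Agent.Lib.J4Dce59.Data.Main

/-! # Evaluation of the checker (Facts1) -/

set_option autoImplicit false
set_option maxRecDepth 100000
set_option maxHeartbeats 0

namespace Cfsg.Agent.Lib.J4Dce59.Check

open Data

theorem facts1_0 : chk (okFact D) 1700 100 = true := by decide +kernel

theorem facts1_1 : chk (okFact D) 1800 100 = true := by decide +kernel

theorem facts1_2 : chk (okFact D) 1900 100 = true := by decide +kernel

theorem facts1_3 : chk (okFact D) 2000 100 = true := by decide +kernel

theorem facts1_4 : chk (okFact D) 2100 100 = true := by decide +kernel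

theorem facts1_5 : chk (okFact D) 2200 100 = true := by decide +kernel

theorem facts1_6 : chk (okFact D) 2300 100 = true := by decide +kernel

theorem facts1_7 : chk (okFact D) 2400 100 = true := by decide +kernel

theorem facts1_8 : chk (okFact D) 2500 100 = true := by decide +kernel

theorem facts1_9 : chk (okFact D) 2600 100 = true := by decide +kernel

theorem facts1_10 : chk (okFact D) 2700 100 = true := by decide +kernel

theorem facts1_11 : chk (okFact D) 2800 100 = true := by decide +kernel

theorem facts1_12 : chk (okFact D) 2900 100 = true := by decide +kernel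

theorem facts1_13 : chk (okFact D) 3000 100 = true := by decide +kernel

theorem facts1_14 : chk (okFact D) 3100 100 = true := by decide +kernel

theorem facts1_15 : chk (okFact D) 3200 100 = true := by decide +kernel

theorem facts1_16 : chk (okFact D) 3300 100 = true := by decide +kernel

theorem facts1 : Iv (okFact D) 1700 3400 :=
  (Iv.of_chk facts1_0)
    |>.join (Iv.of_chk facts1_1)
    |>.join (Iv.of_chk facts1_2)
    |>.join (Iv.of_chk facts1_3)
    |>.join (Iv.of_chk facts1_4)
    |>.join (Iv.of_chk facts1_5)
    |>.join (Iv.of_chk facts1_6)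
    |>.join (Iv.of_chk facts1_7)
    |>.join (Iv.of_chk facts1_8)
    |>.join (Iv.of_chk facts1_9)
    |>.join (Iv.of_chk facts1_10)
    |>.join (Iv.of_chk facts1_11)
    |>.join (Iv.of_chk facts1_12)
    |>.join (Iv.of_chk facts1_13)
    |>.join (Iv.of_chk facts1_14)
    |>.join (Iv.of_chk facts1_15)
    |>.join (Iv.of_chk facts1_16)

end Cfsg.Agent.Lib.J4Dce59.Check
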