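import Cfsg.Agent.Lib.J4Dce59.Chunk
import Cfsg.Agent.Lib.J4Dce59.Data.Main

/-! # Evaluation of the checker (Facts2) -/

set_option autoImplicit false
set_option maxRecDepth 100000
set_option maxHeartbeats 0

namespace Cfsg.Agent.Lib.J4Dce59.Check

open Data

theorem facts2_0 : chk (okFact D) 3400 100 = true := by decide +kernel

theorem facts2_1 : chk (okFact D) 3500 100 = true := by decide +kernel

theorem facts2_2 : chk (okFact D) 3600 100 = true := by decide +kernel

theorem facts2_3 : chk (okFact D) 3700 100 = true := by decide +kernel

theorem facts2_4 : chk (okFact D) 3800 100 = true := by decide +kernel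

theorem facts2_5 : chk (okFact D) 3900 100 = true := by decide +kernel

theorem facts2_6 : chk (okFact D) 4000 100 = true := by decide +kernel

theorem facts2_7 : chk (okFact D) 4100 100 = true := by decide +kernel

theorem facts2_8 : chk (okFact D) 4200 100 = true := by decide +kernel

theorem facts2_9 : chk (okFact D) 4300 100 = true := by decide +kernel

theorem facts2_10 : chk (okFact D) 4400 100 = true := by decide +kernel

theorem facts2_11 : chk (okFact D) 4500 100 = true := by decide +kernel

theorem facts2_12 : chk (okFact D) 4600 100 = true := by decide +kernel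

theorem facts2_13 : chk (okFact D) 4700 100 = true := by decide +kernel

theorem facts2_14 : chk (okFact D) 4800 100 = true := by decide +kernel

theorem facts2_15 : chk (okFact D) 4900 100 = true := by decide +kernel

theorem facts2 : Iv (okFact D) 3400 5000 :=
  (Iv.of_chk facts2_0)
    |>.join (Iv.of_chk facts2_1)
    |>.join (Iv.of_chk facts2_2)
    |>.join (Iv.of_chk facts2_3)
    |>.join (Iv.of_chk facts2_4)
    |>.join (Iv.of_chk facts2_5)
    |>.join (Iv.of_chk facts2_6)
    |>.join (Iv.of_chk facts2_7)
    |>.join (Iv.of_chk facts2_8)
    |>.join (Iv.of_chk facts2_9)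
    |>.join (Iv.of_chk facts2_10)
    |>.join (Iv.of_chk facts2_11)
    |>.join (Iv.of_chk facts2_12)
    |>.join (Iv.of_chk facts2_13)
    |>.join (Iv.of_chk facts2_14)
    |>.join (Iv.of_chk facts2_15)

end Cfsg.Agent.Lib.J4Dce59.Check
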