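import Cfsg.Agent.Lib.J4Dce59.Chunk
import Cfsg.Agent.Lib.J4Dce59.Data.Main

/-! # Evaluation of the checker (Facts3) -/

set_option autoImplicit false
set_option maxRecDepth 100000
set_option maxHeartbeats 0

namespace Cfsg.Agent.Lib.J4Dce59.Check

open Data

theorem facts3_0 : chk (okFact D) 5000 100 = true := by decide +kernel

theorem facts3_1 : chk (okFact D) 5100 100 = true := by decide +kernel

theorem facts3_2 : chk (okFact D) 5200 100 = true := by decide +kernel

theorem facts3_3 : chk (okFact D) 5300 100 = true := by decide +kernel

theorem facts3_4 : chk (okFact D) 5400 100 = true := by decide +kernel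

theorem facts3_5 : chk (okFact D) 5500 100 = true := by decide +kernel

theorem facts3_6 : chk (okFact D) 5600 100 = true := by decide +kernel

theorem facts3_7 : chk (okFact D) 5700 100 = true := by decide +kernel

theorem facts3_8 : chk (okFact D) 5800 100 = true := by decide +kernel

theorem facts3_9 : chk (okFact D) 5900 100 = true := by decide +kernel

theorem facts3_10 : chk (okFact D) 6000 100 = true := by decide +kernel

theorem facts3_11 : chk (okFact D) 6100 100 = true := by decide +kernel

theorem facts3_12 : chk (okFact D) 6200 100 = true := by decide +kernel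

theorem facts3_13 : chk (okFact D) 6300 100 = true := by decide +kernel

theorem facts3_14 : chk (okFact D) 6400 47 = true := by decide +kernel

theorem facts3 : Iv (okFact D) 5000 6447 :=
  (Iv.of_chk facts3_0)
    |>.join (Iv.of_chk facts3_1)
    |>.join (Iv.of_chk facts3_2)
    |>.join (Iv.of_chk facts3_3)
    |>.join (Iv.of_chk facts3_4)
    |>.join (Iv.of_chk facts3_5)
    |>.join (Iv.of_chk facts3_6)
    |>.join (Iv.of_chk facts3_7)
    |>.join (Iv.of_chk facts3_8)
    |>.join (Iv.of_chk facts3_9)
    |>.join (Iv.of_chk facts3_10)
    |>.join (Iv.of_chk facts3_11)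
    |>.join (Iv.of_chk facts3_12)
    |>.join (Iv.of_chk facts3_13)
    |>.join (Iv.of_chk facts3_14)

end Cfsg.Agent.Lib.J4Dce59.Check
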