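import Cfsg.Agent.Lib.J4Dce59.Chunk
import Cfsg.Agent.Lib.J4Dce59.Data.Main

/-! # Evaluation of the checker (Orb0) -/

set_option autoImplicit false
set_option maxRecDepth 100000
set_option maxHeartbeats 0

namespace Cfsg.Agent.Lib.J4Dce59.Check

open Data

theorem trio0_0 : chk (okTrio D C 0) 0 200 = true := by decide +kernel

theorem trio0_1 : chk (okTrio D C 0) 200 200 = true := by decide +kernel

theorem trio0_2 : chk (okTrio D C 0) 400 200 = true := by decide +kernel

theorem trio0_3 : chk (okTrio D C 0) 600 200 = true := by decide +kernel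

theorem trio0_4 : chk (okTrio D C 0) 800 200 = true := by decide +kernel

theorem trio0_5 : chk (okTrio D C 0) 1000 200 = true := by decide +kernel

theorem trio0_6 : chk (okTrio D C 0) 1200 200 = true := by decide +kernel

theorem trio0_7 : chk (okTrio D C 0) 1400 200 = true := by decide +kernel

theorem trio0_8 : chk (okTrio D C 0) 1600 200 = true := by decide +kernel

theorem trio0_9 : chk (okTrio D C 0) 1800 200 = true := by decide +kernel

theorem trio0_10 : chk (okTrio D C 0) 2000 200 = true := by decide +kernel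

theorem trio0_11 : chk (okTrio D C 0) 2200 200 = true := by decide +kernel

theorem trio0_12 : chk (okTrio D C 0) 2400 200 = true := by decide +kernel

theorem trio0_13 : chk (okTrio D C 0) 2600 200 = true := by decide +kernel

theorem trio0_14 : chk (okTrio D C 0) 2800 200 = true := by decide +kernel

theorem trio0_15 : chk (okTrio D C 0) 3000 200 = true := by decide +kernel

theorem trio0_16 : chk (okTrio D C 0) 3200 200 = true := by decide +kernel

theorem trio0_17 : chk (okTrio D C 0) 3400 200 = true := by decide +kernel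

theorem trio0_18 : chk (okTrio D C 0) 3600 195 = true := by decide +kernel

theorem trio0 : Iv (okTrio D C 0) 0 3795 :=
  (Iv.of_chk trio0_0)
    |>.join (Iv.of_chk trio0_1)
    |>.join (Iv.of_chk trio0_2)
    |>.join (Iv.of_chk trio0_3)
    |>.join (Iv.of_chk trio0_4)
    |>.join (Iv.of_chk trio0_5)
    |>.join (Iv.of_chk trio0_6)
    |>.join (Iv.of_chk trio0_7)
    |>.join (Iv.of_chk trio0_8)
    |>.join (Iv.of_chk trio0_9)
    |>.join (Iv.of_chk trio0_10)
    |>.join (Iv.of_chk trio0_11)
    |>.join (Iv.of_chk trio0_12)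
    |>.join (Iv.of_chk trio0_13)
    |>.join (Iv.of_chk trio0_14)
    |>.join (Iv.of_chk trio0_15)
    |>.join (Iv.of_chk trio0_16)
    |>.join (Iv.of_chk trio0_17)
    |>.join (Iv.of_chk trio0_18)

theorem sel0_0 : chk (okSel D C 0) 0 400 = true := by decide +kernel

theorem sel0_1 : chk (okSel D C 0) 400 400 = true := by decide +kernel

theorem sel0_2 : chk (okSel D C 0) 800 400 = true := by decide +kernel

theorem sel0_3 : chk (okSel D C 0) 1200 400 = true := by decide +kernel

theorem sel0_4 : chk (okSel D C 0) 1600 400 = true := by decide +kernel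

theorem sel0_5 : chk (okSel D C 0) 2000 400 = true := by decide +kernel

theorem sel0_6 : chk (okSel D C 0) 2400 256 = true := by decide +kernel

theorem sel0 : Iv (okSel D C 0) 0 2656 :=
  (Iv.of_chk sel0_0)
    |>.join (Iv.of_chk sel0_1)
    |>.join (Iv.of_chk sel0_2)
    |>.join (Iv.of_chk sel0_3)
    |>.join (Iv.of_chk sel0_4)
    |>.join (Iv.of_chk sel0_5)
    |>.join (Iv.of_chk sel0_6)

theorem v0_0_0 : chk (okV D C 0 0) 0 512 = true := by decide +kernel

theorem v0_0_1 : chk (okV D C 0 0) 512 512 = true := by decide +kernel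

theorem v0_0_2 : chk (okV D C 0 0) 1024 512 = true := by decide +kernel

theorem v0_0_3 : chk (okV D C 0 0) 1536 512 = true := by decide +kernel

theorem v0_0 : Iv (okV D C 0 0) 0 2048 :=
  (Iv.of_chk v0_0_0)
    |>.join (Iv.of_chk v0_0_1)
    |>.join (Iv.of_chk v0_0_2)
    |>.join (Iv.of_chk v0_0_3)

theorem roots0 : Iv (okRoot D C 0) 0 1 :=
  Iv.of_chk (p := okRoot D C 0) (a := 0) (k := 1) (by decide +kernel)

theorem chain0 : chainOK (sC C 0) (C.orb 0).levels = true ∧
    chainProd (C.orb 0).levels * (C.orb 0).size = 501397585920 ∧ (C.orb 0).size = 1 := by decide +kernel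

theorem rootsLen0 : (C.orb 0).roots.length = 1 ∧ (C.orb 0).selN = 2656 := by decide +kernel

theorem vall0 : ∀ n, n < 1 → ∀ v, v < 2048 → okV D C 0 n v = true :=
  fun n hn => match n, hn with
  | 0, _ => Iv.all v0_0
  | k + 1, h => absurd h (by omega)

end Cfsg.Agent.Lib.J4Dce59.Check
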