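import Cfsg.Agent.Lib.J4Dce59.Chunk
import Cfsg.Agent.Lib.J4Dce59.Data.Main

/-! # Evaluation of the checker (Orb1) -/

set_option autoImplicit false
set_option maxRecDepth 100000
set_option maxHeartbeats 0

namespace Cfsg.Agent.Lib.J4Dce59.Check

open Data

theorem trio1_0 : chk (okTrio D C 1) 0 200 = true := by decide +kernel

theorem trio1_1 : chk (okTrio D C 1) 200 200 = true := by decide +kernel

theorem trio1_2 : chk (okTrio D C 1) 400 200 = true := by decide +kernel

theorem trio1_3 : chk (okTrio D C 1) 600 200 = true := by decide +kernel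

theorem trio1_4 : chk (okTrio D C 1) 800 200 = true := by decide +kernel

theorem trio1_5 : chk (okTrio D C 1) 1000 200 = true := by decide +kernel

theorem trio1_6 : chk (okTrio D C 1) 1200 200 = true := by decide +kernel

theorem trio1_7 : chk (okTrio D C 1) 1400 200 = true := by decide +kernel

theorem trio1_8 : chk (okTrio D C 1) 1600 200 = true := by decide +kernel

theorem trio1_9 : chk (okTrio D C 1) 1800 200 = true := by decide +kernel

theorem trio1_10 : chk (okTrio D C 1) 2000 200 = true := by decide +kernel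

theorem trio1_11 : chk (okTrio D C 1) 2200 200 = true := by decide +kernel

theorem trio1_12 : chk (okTrio D C 1) 2400 200 = true := by decide +kernel

theorem trio1_13 : chk (okTrio D C 1) 2600 200 = true := by decide +kernel

theorem trio1_14 : chk (okTrio D C 1) 2800 200 = true := by decide +kernel

theorem trio1_15 : chk (okTrio D C 1) 3000 200 = true := by decide +kernel

theorem trio1_16 : chk (okTrio D C 1) 3200 200 = true := by decide +kernel

theorem trio1_17 : chk (okTrio D C 1) 3400 200 = true := by decide +kernel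

theorem trio1_18 : chk (okTrio D C 1) 3600 195 = true := by decide +kernel

theorem trio1 : Iv (okTrio D C 1) 0 3795 :=
  (Iv.of_chk trio1_0)
    |>.join (Iv.of_chk trio1_1)
    |>.join (Iv.of_chk trio1_2)
    |>.join (Iv.of_chk trio1_3)
    |>.join (Iv.of_chk trio1_4)
    |>.join (Iv.of_chk trio1_5)
    |>.join (Iv.of_chk trio1_6)
    |>.join (Iv.of_chk trio1_7)
    |>.join (Iv.of_chk trio1_8)
    |>.join (Iv.of_chk trio1_9)
    |>.join (Iv.of_chk trio1_10)
    |>.join (Iv.of_chk trio1_11)
    |>.join (Iv.of_chk trio1_12)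
    |>.join (Iv.of_chk trio1_13)
    |>.join (Iv.of_chk trio1_14)
    |>.join (Iv.of_chk trio1_15)
    |>.join (Iv.of_chk trio1_16)
    |>.join (Iv.of_chk trio1_17)
    |>.join (Iv.of_chk trio1_18)

theorem sel1_0 : chk (okSel D C 1) 0 400 = true := by decide +kernel

theorem sel1_1 : chk (okSel D C 1) 400 377 = true := by decide +kernel

theorem sel1 : Iv (okSel D C 1) 0 777 :=
  (Iv.of_chk sel1_0)
    |>.join (Iv.of_chk sel1_1)

theorem v1_0_0 : chk (okV D C 1 0) 0 512 = true := by decide +kernel

theorem v1_0_1 : chk (okV D C 1 0) 512 512 = true := by decide +kernel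

theorem v1_0_2 : chk (okV D C 1 0) 1024 512 = true := by decide +kernel

theorem v1_0_3 : chk (okV D C 1 0) 1536 512 = true := by decide +kernel

theorem v1_0 : Iv (okV D C 1 0) 0 2048 :=
  (Iv.of_chk v1_0_0)
    |>.join (Iv.of_chk v1_0_1)
    |>.join (Iv.of_chk v1_0_2)
    |>.join (Iv.of_chk v1_0_3)

theorem v1_1_0 : chk (okV D C 1 1) 0 512 = true := by decide +kernel

theorem v1_1_1 : chk (okV D C 1 1) 512 512 = true := by decide +kernel

theorem v1_1_2 : chk (okV D C 1 1) 1024 512 = true := by decide +kernel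

theorem v1_1_3 : chk (okV D C 1 1) 1536 512 = true := by decide +kernel

theorem v1_1 : Iv (okV D C 1 1) 0 2048 :=
  (Iv.of_chk v1_1_0)
    |>.join (Iv.of_chk v1_1_1)
    |>.join (Iv.of_chk v1_1_2)
    |>.join (Iv.of_chk v1_1_3)

theorem v1_2_0 : chk (okV D C 1 2) 0 512 = true := by decide +kernel

theorem v1_2_1 : chk (okV D C 1 2) 512 512 = true := by decide +kernel

theorem v1_2_2 : chk (okV D C 1 2) 1024 512 = true := by decide +kernel

theorem v1_2_3 : chk (okV D C 1 2) 1536 512 = true := by decide +kernel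

theorem v1_2 : Iv (okV D C 1 2) 0 2048 :=
  (Iv.of_chk v1_2_0)
    |>.join (Iv.of_chk v1_2_1)
    |>.join (Iv.of_chk v1_2_2)
    |>.join (Iv.of_chk v1_2_3)

theorem v1_3_0 : chk (okV D C 1 3) 0 512 = true := by decide +kernel

theorem v1_3_1 : chk (okV D C 1 3) 512 512 = true := by decide +kernel

theorem v1_3_2 : chk (okV D C 1 3) 1024 512 = true := by decide +kernel

theorem v1_3_3 : chk (okV D C 1 3) 1536 512 = true := by decide +kernel

theorem v1_3 : Iv (okV D C 1 3) 0 2048 :=
  (Iv.of_chk v1_3_0)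
    |>.join (Iv.of_chk v1_3_1)
    |>.join (Iv.of_chk v1_3_2)
    |>.join (Iv.of_chk v1_3_3)

theorem v1_4_0 : chk (okV D C 1 4) 0 512 = true := by decide +kernel

theorem v1_4_1 : chk (okV D C 1 4) 512 512 = true := by decide +kernel

theorem v1_4_2 : chk (okV D C 1 4) 1024 512 = true := by decide +kernel

theorem v1_4_3 : chk (okV D C 1 4) 1536 512 = true := by decide +kernel

theorem v1_4 : Iv (okV D C 1 4) 0 2048 :=
  (Iv.of_chk v1_4_0)
    |>.join (Iv.of_chk v1_4_1)
    |>.join (Iv.of_chk v1_4_2)
    |>.join (Iv.of_chk v1_4_3)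

theorem roots1 : Iv (okRoot D C 1) 0 5 :=
  Iv.of_chk (p := okRoot D C 1) (a := 0) (k := 5) (by decide +kernel)

theorem chain1 : chainOK (sC C 1) (C.orb 1).levels = true ∧
    chainProd (C.orb 1).levels * (C.orb 1).size = 501397585920 ∧ (C.orb 1).size = 15180 := by decide +kernel

theorem rootsLen1 : (C.orb 1).roots.length = 5 ∧ (C.orb 1).selN = 777 := by decide +kernel

theorem vall1 : ∀ n, n < 5 → ∀ v, v < 2048 → okV D C 1 n v = true :=
  fun n hn => match n, hn with
  | 0, _ => Iv.all v1_0
  | 1, _ => Iv.all v1_1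
  | 2, _ => Iv.all v1_2
  | 3, _ => Iv.all v1_3
  | 4, _ => Iv.all v1_4
  | k + 5, h => absurd h (by omega)

end Cfsg.Agent.Lib.J4Dce59.Check
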