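import Cfsg.Agent.Lib.J4Dce59.Chunk
import Cfsg.Agent.Lib.J4Dce59.Data.Main

/-! # Evaluation of the checker (Orb2) -/

set_option autoImplicit false
set_option maxRecDepth 100000
set_option maxHeartbeats 0

namespace Cfsg.Agent.Lib.J4Dce59.Check

open Data

theorem trio2_0 : chk (okTrio D C 2) 0 200 = true := by decide +kernel

theorem trio2_1 : chk (okTrio D C 2) 200 200 = true := by decide +kernel

theorem trio2_2 : chk (okTrio D C 2) 400 200 = true := by decide +kernel

theorem trio2_3 : chk (okTrio D C 2) 600 200 = true := by decide +kernel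

theorem trio2_4 : chk (okTrio D C 2) 800 200 = true := by decide +kernel

theorem trio2_5 : chk (okTrio D C 2) 1000 200 = true := by decide +kernel

theorem trio2_6 : chk (okTrio D C 2) 1200 200 = true := by decide +kernel

theorem trio2_7 : chk (okTrio D C 2) 1400 200 = true := by decide +kernel

theorem trio2_8 : chk (okTrio D C 2) 1600 200 = true := by decide +kernel

theorem trio2_9 : chk (okTrio D C 2) 1800 200 = true := by decide +kernel

theorem trio2_10 : chk (okTrio D C 2) 2000 200 = true := by decide +kernel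

theorem trio2_11 : chk (okTrio D C 2) 2200 200 = true := by decide +kernel

theorem trio2_12 : chk (okTrio D C 2) 2400 200 = true := by decide +kernel

theorem trio2_13 : chk (okTrio D C 2) 2600 200 = true := by decide +kernel

theorem trio2_14 : chk (okTrio D C 2) 2800 200 = true := by decide +kernel

theorem trio2_15 : chk (okTrio D C 2) 3000 200 = true := by decide +kernel

theorem trio2_16 : chk (okTrio D C 2) 3200 200 = true := by decide +kernel

theorem trio2_17 : chk (okTrio D C 2) 3400 200 = true := by decide +kernel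

theorem trio2_18 : chk (okTrio D C 2) 3600 195 = true := by decide +kernel

theorem trio2 : Iv (okTrio D C 2) 0 3795 :=
  (Iv.of_chk trio2_0)
    |>.join (Iv.of_chk trio2_1)
    |>.join (Iv.of_chk trio2_2)
    |>.join (Iv.of_chk trio2_3)
    |>.join (Iv.of_chk trio2_4)
    |>.join (Iv.of_chk trio2_5)
    |>.join (Iv.of_chk trio2_6)
    |>.join (Iv.of_chk trio2_7)
    |>.join (Iv.of_chk trio2_8)
    |>.join (Iv.of_chk trio2_9)
    |>.join (Iv.of_chk trio2_10)
    |>.join (Iv.of_chk trio2_11)
    |>.join (Iv.of_chk trio2_12)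
    |>.join (Iv.of_chk trio2_13)
    |>.join (Iv.of_chk trio2_14)
    |>.join (Iv.of_chk trio2_15)
    |>.join (Iv.of_chk trio2_16)
    |>.join (Iv.of_chk trio2_17)
    |>.join (Iv.of_chk trio2_18)

theorem sel2_0 : chk (okSel D C 2) 0 308 = true := by decide +kernel

theorem sel2 : Iv (okSel D C 2) 0 308 :=
  (Iv.of_chk sel2_0)

theorem v2_0_0 : chk (okV D C 2 0) 0 512 = true := by decide +kernel

theorem v2_0_1 : chk (okV D C 2 0) 512 512 = true := by decide +kernel

theorem v2_0_2 : chk (okV D C 2 0) 1024 512 = true := by decide +kernel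

theorem v2_0_3 : chk (okV D C 2 0) 1536 512 = true := by decide +kernel

theorem v2_0 : Iv (okV D C 2 0) 0 2048 :=
  (Iv.of_chk v2_0_0)
    |>.join (Iv.of_chk v2_0_1)
    |>.join (Iv.of_chk v2_0_2)
    |>.join (Iv.of_chk v2_0_3)

theorem v2_1_0 : chk (okV D C 2 1) 0 512 = true := by decide +kernel

theorem v2_1_1 : chk (okV D C 2 1) 512 512 = true := by decide +kernel

theorem v2_1_2 : chk (okV D C 2 1) 1024 512 = true := by decide +kernel

theorem v2_1_3 : chk (okV D C 2 1) 1536 512 = true := by decide +kernel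

theorem v2_1 : Iv (okV D C 2 1) 0 2048 :=
  (Iv.of_chk v2_1_0)
    |>.join (Iv.of_chk v2_1_1)
    |>.join (Iv.of_chk v2_1_2)
    |>.join (Iv.of_chk v2_1_3)

theorem v2_2_0 : chk (okV D C 2 2) 0 512 = true := by decide +kernel

theorem v2_2_1 : chk (okV D C 2 2) 512 512 = true := by decide +kernel

theorem v2_2_2 : chk (okV D C 2 2) 1024 512 = true := by decide +kernel

theorem v2_2_3 : chk (okV D C 2 2) 1536 512 = true := by decide +kernel

theorem v2_2 : Iv (okV D C 2 2) 0 2048 :=
  (Iv.of_chk v2_2_0)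
    |>.join (Iv.of_chk v2_2_1)
    |>.join (Iv.of_chk v2_2_2)
    |>.join (Iv.of_chk v2_2_3)

theorem v2_3_0 : chk (okV D C 2 3) 0 512 = true := by decide +kernel

theorem v2_3_1 : chk (okV D C 2 3) 512 512 = true := by decide +kernel

theorem v2_3_2 : chk (okV D C 2 3) 1024 512 = true := by decide +kernel

theorem v2_3_3 : chk (okV D C 2 3) 1536 512 = true := by decide +kernel

theorem v2_3 : Iv (okV D C 2 3) 0 2048 :=
  (Iv.of_chk v2_3_0)
    |>.join (Iv.of_chk v2_3_1)
    |>.join (Iv.of_chk v2_3_2)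
    |>.join (Iv.of_chk v2_3_3)

theorem v2_4_0 : chk (okV D C 2 4) 0 512 = true := by decide +kernel

theorem v2_4_1 : chk (okV D C 2 4) 512 512 = true := by decide +kernel

theorem v2_4_2 : chk (okV D C 2 4) 1024 512 = true := by decide +kernel

theorem v2_4_3 : chk (okV D C 2 4) 1536 512 = true := by decide +kernel

theorem v2_4 : Iv (okV D C 2 4) 0 2048 :=
  (Iv.of_chk v2_4_0)
    |>.join (Iv.of_chk v2_4_1)
    |>.join (Iv.of_chk v2_4_2)
    |>.join (Iv.of_chk v2_4_3)

theorem v2_5_0 : chk (okV D C 2 5) 0 512 = true := by decide +kernel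

theorem v2_5_1 : chk (okV D C 2 5) 512 512 = true := by decide +kernel

theorem v2_5_2 : chk (okV D C 2 5) 1024 512 = true := by decide +kernel

theorem v2_5_3 : chk (okV D C 2 5) 1536 512 = true := by decide +kernel

theorem v2_5 : Iv (okV D C 2 5) 0 2048 :=
  (Iv.of_chk v2_5_0)
    |>.join (Iv.of_chk v2_5_1)
    |>.join (Iv.of_chk v2_5_2)
    |>.join (Iv.of_chk v2_5_3)

theorem v2_6_0 : chk (okV D C 2 6) 0 512 = true := by decide +kernel

theorem v2_6_1 : chk (okV D C 2 6) 512 512 = true := by decide +kernel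

theorem v2_6_2 : chk (okV D C 2 6) 1024 512 = true := by decide +kernel

theorem v2_6_3 : chk (okV D C 2 6) 1536 512 = true := by decide +kernel

theorem v2_6 : Iv (okV D C 2 6) 0 2048 :=
  (Iv.of_chk v2_6_0)
    |>.join (Iv.of_chk v2_6_1)
    |>.join (Iv.of_chk v2_6_2)
    |>.join (Iv.of_chk v2_6_3)

theorem v2_7_0 : chk (okV D C 2 7) 0 512 = true := by decide +kernel

theorem v2_7_1 : chk (okV D C 2 7) 512 512 = true := by decide +kernel

theorem v2_7_2 : chk (okV D C 2 7) 1024 512 = true := by decide +kernel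

theorem v2_7_3 : chk (okV D C 2 7) 1536 512 = true := by decide +kernel

theorem v2_7 : Iv (okV D C 2 7) 0 2048 :=
  (Iv.of_chk v2_7_0)
    |>.join (Iv.of_chk v2_7_1)
    |>.join (Iv.of_chk v2_7_2)
    |>.join (Iv.of_chk v2_7_3)

theorem v2_8_0 : chk (okV D C 2 8) 0 512 = true := by decide +kernel

theorem v2_8_1 : chk (okV D C 2 8) 512 512 = true := by decide +kernel

theorem v2_8_2 : chk (okV D C 2 8) 1024 512 = true := by decide +kernel

theorem v2_8_3 : chk (okV D C 2 8) 1536 512 = true := by decide +kernel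

theorem v2_8 : Iv (okV D C 2 8) 0 2048 :=
  (Iv.of_chk v2_8_0)
    |>.join (Iv.of_chk v2_8_1)
    |>.join (Iv.of_chk v2_8_2)
    |>.join (Iv.of_chk v2_8_3)

theorem v2_9_0 : chk (okV D C 2 9) 0 512 = true := by decide +kernel

theorem v2_9_1 : chk (okV D C 2 9) 512 512 = true := by decide +kernel

theorem v2_9_2 : chk (okV D C 2 9) 1024 512 = true := by decide +kernel

theorem v2_9_3 : chk (okV D C 2 9) 1536 512 = true := by decide +kernel

theorem v2_9 : Iv (okV D C 2 9) 0 2048 :=
  (Iv.of_chk v2_9_0)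
    |>.join (Iv.of_chk v2_9_1)
    |>.join (Iv.of_chk v2_9_2)
    |>.join (Iv.of_chk v2_9_3)

theorem roots2 : Iv (okRoot D C 2) 0 10 :=
  Iv.of_chk (p := okRoot D C 2) (a := 0) (k := 10) (by decide +kernel)

theorem chain2 : chainOK (sC C 2) (C.orb 2).levels = true ∧
    chainProd (C.orb 2).levels * (C.orb 2).size = 501397585920 ∧ (C.orb 2).size = 3400320 := by decide +kernel

theorem rootsLen2 : (C.orb 2).roots.length = 10 ∧ (C.orb 2).selN = 308 := by decide +kernel

theorem vall2 : ∀ n, n < 10 → ∀ v, v < 2048 → okV D C 2 n v = true :=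
  fun n hn => match n, hn with
  | 0, _ => Iv.all v2_0
  | 1, _ => Iv.all v2_1
  | 2, _ => Iv.all v2_2
  | 3, _ => Iv.all v2_3
  | 4, _ => Iv.all v2_4
  | 5, _ => Iv.all v2_5
  | 6, _ => Iv.all v2_6
  | 7, _ => Iv.all v2_7
  | 8, _ => Iv.all v2_8
  | 9, _ => Iv.all v2_9
  | k + 10, h => absurd h (by omega)

end Cfsg.Agent.Lib.J4Dce59.Check
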