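import Cfsg.Agent.Lib.J4Dce59.Chunk
import Cfsg.Agent.Lib.J4Dce59.Data.Main

/-! # Evaluation of the checker (Orb3) -/

set_option autoImplicit false
set_option maxRecDepth 100000
set_option maxHeartbeats 0

namespace Cfsg.Agent.Lib.J4Dce59.Check

open Data

theorem trio3_0 : chk (okTrio D C 3) 0 200 = true := by decide +kernel

theorem trio3_1 : chk (okTrio D C 3) 200 200 = true := by decide +kernel

theorem trio3_2 : chk (okTrio D C 3) 400 200 = true := by decide +kernel

theorem trio3_3 : chk (okTrio D C 3) 600 200 = true := by decide +kernel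

theorem trio3_4 : chk (okTrio D C 3) 800 200 = true := by decide +kernel

theorem trio3_5 : chk (okTrio D C 3) 1000 200 = true := by decide +kernel

theorem trio3_6 : chk (okTrio D C 3) 1200 200 = true := by decide +kernel

theorem trio3_7 : chk (okTrio D C 3) 1400 200 = true := by decide +kernel

theorem trio3_8 : chk (okTrio D C 3) 1600 200 = true := by decide +kernel

theorem trio3_9 : chk (okTrio D C 3) 1800 200 = true := by decide +kernel

theorem trio3_10 : chk (okTrio D C 3) 2000 200 = true := by decide +kernel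

theorem trio3_11 : chk (okTrio D C 3) 2200 200 = true := by decide +kernel

theorem trio3_12 : chk (okTrio D C 3) 2400 200 = true := by decide +kernel

theorem trio3_13 : chk (okTrio D C 3) 2600 200 = true := by decide +kernel

theorem trio3_14 : chk (okTrio D C 3) 2800 200 = true := by decide +kernel

theorem trio3_15 : chk (okTrio D C 3) 3000 200 = true := by decide +kernel

theorem trio3_16 : chk (okTrio D C 3) 3200 200 = true := by decide +kernel

theorem trio3_17 : chk (okTrio D C 3) 3400 200 = true := by decide +kernel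

theorem trio3_18 : chk (okTrio D C 3) 3600 195 = true := by decide +kernel

theorem trio3 : Iv (okTrio D C 3) 0 3795 :=
  (Iv.of_chk trio3_0)
    |>.join (Iv.of_chk trio3_1)
    |>.join (Iv.of_chk trio3_2)
    |>.join (Iv.of_chk trio3_3)
    |>.join (Iv.of_chk trio3_4)
    |>.join (Iv.of_chk trio3_5)
    |>.join (Iv.of_chk trio3_6)
    |>.join (Iv.of_chk trio3_7)
    |>.join (Iv.of_chk trio3_8)
    |>.join (Iv.of_chk trio3_9)
    |>.join (Iv.of_chk trio3_10)
    |>.join (Iv.of_chk trio3_11)
    |>.join (Iv.of_chk trio3_12)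
    |>.join (Iv.of_chk trio3_13)
    |>.join (Iv.of_chk trio3_14)
    |>.join (Iv.of_chk trio3_15)
    |>.join (Iv.of_chk trio3_16)
    |>.join (Iv.of_chk trio3_17)
    |>.join (Iv.of_chk trio3_18)

theorem sel3_0 : chk (okSel D C 3) 0 288 = true := by decide +kernel

theorem sel3 : Iv (okSel D C 3) 0 288 :=
  (Iv.of_chk sel3_0)

theorem v3_0_0 : chk (okV D C 3 0) 0 512 = true := by decide +kernel

theorem v3_0_1 : chk (okV D C 3 0) 512 512 = true := by decide +kernel

theorem v3_0_2 : chk (okV D C 3 0) 1024 512 = true := by decide +kernel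

theorem v3_0_3 : chk (okV D C 3 0) 1536 512 = true := by decide +kernel

theorem v3_0 : Iv (okV D C 3 0) 0 2048 :=
  (Iv.of_chk v3_0_0)
    |>.join (Iv.of_chk v3_0_1)
    |>.join (Iv.of_chk v3_0_2)
    |>.join (Iv.of_chk v3_0_3)

theorem v3_1_0 : chk (okV D C 3 1) 0 512 = true := by decide +kernel

theorem v3_1_1 : chk (okV D C 3 1) 512 512 = true := by decide +kernel

theorem v3_1_2 : chk (okV D C 3 1) 1024 512 = true := by decide +kernel

theorem v3_1_3 : chk (okV D C 3 1) 1536 512 = true := by decide +kernel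

theorem v3_1 : Iv (okV D C 3 1) 0 2048 :=
  (Iv.of_chk v3_1_0)
    |>.join (Iv.of_chk v3_1_1)
    |>.join (Iv.of_chk v3_1_2)
    |>.join (Iv.of_chk v3_1_3)

theorem v3_2_0 : chk (okV D C 3 2) 0 512 = true := by decide +kernel

theorem v3_2_1 : chk (okV D C 3 2) 512 512 = true := by decide +kernel

theorem v3_2_2 : chk (okV D C 3 2) 1024 512 = true := by decide +kernel

theorem v3_2_3 : chk (okV D C 3 2) 1536 512 = true := by decide +kernel

theorem v3_2 : Iv (okV D C 3 2) 0 2048 :=
  (Iv.of_chk v3_2_0)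
    |>.join (Iv.of_chk v3_2_1)
    |>.join (Iv.of_chk v3_2_2)
    |>.join (Iv.of_chk v3_2_3)

theorem v3_3_0 : chk (okV D C 3 3) 0 512 = true := by decide +kernel

theorem v3_3_1 : chk (okV D C 3 3) 512 512 = true := by decide +kernel

theorem v3_3_2 : chk (okV D C 3 3) 1024 512 = true := by decide +kernel

theorem v3_3_3 : chk (okV D C 3 3) 1536 512 = true := by decide +kernel

theorem v3_3 : Iv (okV D C 3 3) 0 2048 :=
  (Iv.of_chk v3_3_0)
    |>.join (Iv.of_chk v3_3_1)
    |>.join (Iv.of_chk v3_3_2)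
    |>.join (Iv.of_chk v3_3_3)

theorem v3_4_0 : chk (okV D C 3 4) 0 512 = true := by decide +kernel

theorem v3_4_1 : chk (okV D C 3 4) 512 512 = true := by decide +kernel

theorem v3_4_2 : chk (okV D C 3 4) 1024 512 = true := by decide +kernel

theorem v3_4_3 : chk (okV D C 3 4) 1536 512 = true := by decide +kernel

theorem v3_4 : Iv (okV D C 3 4) 0 2048 :=
  (Iv.of_chk v3_4_0)
    |>.join (Iv.of_chk v3_4_1)
    |>.join (Iv.of_chk v3_4_2)
    |>.join (Iv.of_chk v3_4_3)

theorem v3_5_0 : chk (okV D C 3 5) 0 512 = true := by decide +kernel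

theorem v3_5_1 : chk (okV D C 3 5) 512 512 = true := by decide +kernel

theorem v3_5_2 : chk (okV D C 3 5) 1024 512 = true := by decide +kernel

theorem v3_5_3 : chk (okV D C 3 5) 1536 512 = true := by decide +kernel

theorem v3_5 : Iv (okV D C 3 5) 0 2048 :=
  (Iv.of_chk v3_5_0)
    |>.join (Iv.of_chk v3_5_1)
    |>.join (Iv.of_chk v3_5_2)
    |>.join (Iv.of_chk v3_5_3)

theorem v3_6_0 : chk (okV D C 3 6) 0 512 = true := by decide +kernel

theorem v3_6_1 : chk (okV D C 3 6) 512 512 = true := by decide +kernel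

theorem v3_6_2 : chk (okV D C 3 6) 1024 512 = true := by decide +kernel

theorem v3_6_3 : chk (okV D C 3 6) 1536 512 = true := by decide +kernel

theorem v3_6 : Iv (okV D C 3 6) 0 2048 :=
  (Iv.of_chk v3_6_0)
    |>.join (Iv.of_chk v3_6_1)
    |>.join (Iv.of_chk v3_6_2)
    |>.join (Iv.of_chk v3_6_3)

theorem v3_7_0 : chk (okV D C 3 7) 0 512 = true := by decide +kernel

theorem v3_7_1 : chk (okV D C 3 7) 512 512 = true := by decide +kernel

theorem v3_7_2 : chk (okV D C 3 7) 1024 512 = true := by decide +kernel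

theorem v3_7_3 : chk (okV D C 3 7) 1536 512 = true := by decide +kernel

theorem v3_7 : Iv (okV D C 3 7) 0 2048 :=
  (Iv.of_chk v3_7_0)
    |>.join (Iv.of_chk v3_7_1)
    |>.join (Iv.of_chk v3_7_2)
    |>.join (Iv.of_chk v3_7_3)

theorem v3_8_0 : chk (okV D C 3 8) 0 512 = true := by decide +kernel

theorem v3_8_1 : chk (okV D C 3 8) 512 512 = true := by decide +kernel

theorem v3_8_2 : chk (okV D C 3 8) 1024 512 = true := by decide +kernel

theorem v3_8_3 : chk (okV D C 3 8) 1536 512 = true := by decide +kernel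

theorem v3_8 : Iv (okV D C 3 8) 0 2048 :=
  (Iv.of_chk v3_8_0)
    |>.join (Iv.of_chk v3_8_1)
    |>.join (Iv.of_chk v3_8_2)
    |>.join (Iv.of_chk v3_8_3)

theorem roots3 : Iv (okRoot D C 3) 0 9 :=
  Iv.of_chk (p := okRoot D C 3) (a := 0) (k := 9) (by decide +kernel)

theorem chain3 : chainOK (sC C 3) (C.orb 3).levels = true ∧
    chainProd (C.orb 3).levels * (C.orb 3).size = 501397585920 ∧ (C.orb 3).size = 32643072 := by decide +kernel

theorem rootsLen3 : (C.orb 3).roots.length = 9 ∧ (C.orb 3).selN = 288 := by decide +kernel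

theorem vall3 : ∀ n, n < 9 → ∀ v, v < 2048 → okV D C 3 n v = true :=
  fun n hn => match n, hn with
  | 0, _ => Iv.all v3_0
  | 1, _ => Iv.all v3_1
  | 2, _ => Iv.all v3_2
  | 3, _ => Iv.all v3_3
  | 4, _ => Iv.all v3_4
  | 5, _ => Iv.all v3_5
  | 6, _ => Iv.all v3_6
  | 7, _ => Iv.all v3_7
  | 8, _ => Iv.all v3_8
  | k + 9, h => absurd h (by omega)

end Cfsg.Agent.Lib.J4Dce59.Check
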