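import Cfsg.Agent.Lib.J4Dce59.Chunk
import Cfsg.Agent.Lib.J4Dce59.Data.Main

/-! # Evaluation of the checker (Orb4) -/

set_option autoImplicit false
set_option maxRecDepth 100000
set_option maxHeartbeats 0

namespace Cfsg.Agent.Lib.J4Dce59.Check

open Data

theorem trio4_0 : chk (okTrio D C 4) 0 200 = true := by decide +kernel

theorem trio4_1 : chk (okTrio D C 4) 200 200 = true := by decide +kernel

theorem trio4_2 : chk (okTrio D C 4) 400 200 = true := by decide +kernel

theorem trio4_3 : chk (okTrio D C 4) 600 200 = true := by decide +kernel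

theorem trio4_4 : chk (okTrio D C 4) 800 200 = true := by decide +kernel

theorem trio4_5 : chk (okTrio D C 4) 1000 200 = true := by decide +kernel

theorem trio4_6 : chk (okTrio D C 4) 1200 200 = true := by decide +kernel

theorem trio4_7 : chk (okTrio D C 4) 1400 200 = true := by decide +kernel

theorem trio4_8 : chk (okTrio D C 4) 1600 200 = true := by decide +kernel

theorem trio4_9 : chk (okTrio D C 4) 1800 200 = true := by decide +kernel

theorem trio4_10 : chk (okTrio D C 4) 2000 200 = true := by decide +kernel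

theorem trio4_11 : chk (okTrio D C 4) 2200 200 = true := by decide +kernel

theorem trio4_12 : chk (okTrio D C 4) 2400 200 = true := by decide +kernel

theorem trio4_13 : chk (okTrio D C 4) 2600 200 = true := by decide +kernel

theorem trio4_14 : chk (okTrio D C 4) 2800 200 = true := by decide +kernel

theorem trio4_15 : chk (okTrio D C 4) 3000 200 = true := by decide +kernel

theorem trio4_16 : chk (okTrio D C 4) 3200 200 = true := by decide +kernel

theorem trio4_17 : chk (okTrio D C 4) 3400 200 = true := by decide +kernel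

theorem trio4_18 : chk (okTrio D C 4) 3600 195 = true := by decide +kernel

theorem trio4 : Iv (okTrio D C 4) 0 3795 :=
  (Iv.of_chk trio4_0)
    |>.join (Iv.of_chk trio4_1)
    |>.join (Iv.of_chk trio4_2)
    |>.join (Iv.of_chk trio4_3)
    |>.join (Iv.of_chk trio4_4)
    |>.join (Iv.of_chk trio4_5)
    |>.join (Iv.of_chk trio4_6)
    |>.join (Iv.of_chk trio4_7)
    |>.join (Iv.of_chk trio4_8)
    |>.join (Iv.of_chk trio4_9)
    |>.join (Iv.of_chk trio4_10)
    |>.join (Iv.of_chk trio4_11)
    |>.join (Iv.of_chk trio4_12)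
    |>.join (Iv.of_chk trio4_13)
    |>.join (Iv.of_chk trio4_14)
    |>.join (Iv.of_chk trio4_15)
    |>.join (Iv.of_chk trio4_16)
    |>.join (Iv.of_chk trio4_17)
    |>.join (Iv.of_chk trio4_18)

theorem sel4_0 : chk (okSel D C 4) 0 400 = true := by decide +kernel

theorem sel4_1 : chk (okSel D C 4) 400 306 = true := by decide +kernel

theorem sel4 : Iv (okSel D C 4) 0 706 :=
  (Iv.of_chk sel4_0)
    |>.join (Iv.of_chk sel4_1)

theorem v4_0_0 : chk (okV D C 4 0) 0 512 = true := by decide +kernel

theorem v4_0_1 : chk (okV D C 4 0) 512 512 = true := by decide +kernel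

theorem v4_0_2 : chk (okV D C 4 0) 1024 512 = true := by decide +kernel

theorem v4_0_3 : chk (okV D C 4 0) 1536 512 = true := by decide +kernel

theorem v4_0 : Iv (okV D C 4 0) 0 2048 :=
  (Iv.of_chk v4_0_0)
    |>.join (Iv.of_chk v4_0_1)
    |>.join (Iv.of_chk v4_0_2)
    |>.join (Iv.of_chk v4_0_3)

theorem v4_1_0 : chk (okV D C 4 1) 0 512 = true := by decide +kernel

theorem v4_1_1 : chk (okV D C 4 1) 512 512 = true := by decide +kernel

theorem v4_1_2 : chk (okV D C 4 1) 1024 512 = true := by decide +kernel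

theorem v4_1_3 : chk (okV D C 4 1) 1536 512 = true := by decide +kernel

theorem v4_1 : Iv (okV D C 4 1) 0 2048 :=
  (Iv.of_chk v4_1_0)
    |>.join (Iv.of_chk v4_1_1)
    |>.join (Iv.of_chk v4_1_2)
    |>.join (Iv.of_chk v4_1_3)

theorem v4_2_0 : chk (okV D C 4 2) 0 512 = true := by decide +kernel

theorem v4_2_1 : chk (okV D C 4 2) 512 512 = true := by decide +kernel

theorem v4_2_2 : chk (okV D C 4 2) 1024 512 = true := by decide +kernel

theorem v4_2_3 : chk (okV D C 4 2) 1536 512 = true := by decide +kernel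

theorem v4_2 : Iv (okV D C 4 2) 0 2048 :=
  (Iv.of_chk v4_2_0)
    |>.join (Iv.of_chk v4_2_1)
    |>.join (Iv.of_chk v4_2_2)
    |>.join (Iv.of_chk v4_2_3)

theorem v4_3_0 : chk (okV D C 4 3) 0 512 = true := by decide +kernel

theorem v4_3_1 : chk (okV D C 4 3) 512 512 = true := by decide +kernel

theorem v4_3_2 : chk (okV D C 4 3) 1024 512 = true := by decide +kernel

theorem v4_3_3 : chk (okV D C 4 3) 1536 512 = true := by decide +kernel

theorem v4_3 : Iv (okV D C 4 3) 0 2048 :=
  (Iv.of_chk v4_3_0)
    |>.join (Iv.of_chk v4_3_1)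
    |>.join (Iv.of_chk v4_3_2)
    |>.join (Iv.of_chk v4_3_3)

theorem roots4 : Iv (okRoot D C 4) 0 4 :=
  Iv.of_chk (p := okRoot D C 4) (a := 0) (k := 4) (by decide +kernel)

theorem chain4 : chainOK (sC C 4) (C.orb 4).levels = true ∧
    chainProd (C.orb 4).levels * (C.orb 4).size = 501397585920 ∧ (C.orb 4).size = 28336 := by decide +kernel

theorem rootsLen4 : (C.orb 4).roots.length = 4 ∧ (C.orb 4).selN = 706 := by decide +kernel

theorem vall4 : ∀ n, n < 4 → ∀ v, v < 2048 → okV D C 4 n v = true :=
  fun n hn => match n, hn with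
  | 0, _ => Iv.all v4_0
  | 1, _ => Iv.all v4_1
  | 2, _ => Iv.all v4_2
  | 3, _ => Iv.all v4_3
  | k + 4, h => absurd h (by omega)

end Cfsg.Agent.Lib.J4Dce59.Check
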