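import Cfsg.Agent.Lib.J4Dce59.Chunk
import Cfsg.Agent.Lib.J4Dce59.Data.Main

/-! # Evaluation of the checker (Orb6) -/

set_option autoImplicit false
set_option maxRecDepth 100000
set_option maxHeartbeats 0

namespace Cfsg.Agent.Lib.J4Dce59.Check

open Data

theorem trio6_0 : chk (okTrio D C 6) 0 200 = true := by decide +kernel

theorem trio6_1 : chk (okTrio D C 6) 200 200 = true := by decide +kernel

theorem trio6_2 : chk (okTrio D C 6) 400 200 = true := by decide +kernel

theorem trio6_3 : chk (okTrio D C 6) 600 200 = true := by decide +kernel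

theorem trio6_4 : chk (okTrio D C 6) 800 200 = true := by decide +kernel

theorem trio6_5 : chk (okTrio D C 6) 1000 200 = true := by decide +kernel

theorem trio6_6 : chk (okTrio D C 6) 1200 200 = true := by decide +kernel

theorem trio6_7 : chk (okTrio D C 6) 1400 200 = true := by decide +kernel

theorem trio6_8 : chk (okTrio D C 6) 1600 200 = true := by decide +kernel

theorem trio6_9 : chk (okTrio D C 6) 1800 200 = true := by decide +kernel

theorem trio6_10 : chk (okTrio D C 6) 2000 200 = true := by decide +kernel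

theorem trio6_11 : chk (okTrio D C 6) 2200 200 = true := by decide +kernel

theorem trio6_12 : chk (okTrio D C 6) 2400 200 = true := by decide +kernel

theorem trio6_13 : chk (okTrio D C 6) 2600 200 = true := by decide +kernel

theorem trio6_14 : chk (okTrio D C 6) 2800 200 = true := by decide +kernel

theorem trio6_15 : chk (okTrio D C 6) 3000 200 = true := by decide +kernel

theorem trio6_16 : chk (okTrio D C 6) 3200 200 = true := by decide +kernel

theorem trio6_17 : chk (okTrio D C 6) 3400 200 = true := by decide +kernel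

theorem trio6_18 : chk (okTrio D C 6) 3600 195 = true := by decide +kernel

theorem trio6 : Iv (okTrio D C 6) 0 3795 :=
  (Iv.of_chk trio6_0)
    |>.join (Iv.of_chk trio6_1)
    |>.join (Iv.of_chk trio6_2)
    |>.join (Iv.of_chk trio6_3)
    |>.join (Iv.of_chk trio6_4)
    |>.join (Iv.of_chk trio6_5)
    |>.join (Iv.of_chk trio6_6)
    |>.join (Iv.of_chk trio6_7)
    |>.join (Iv.of_chk trio6_8)
    |>.join (Iv.of_chk trio6_9)
    |>.join (Iv.of_chk trio6_10)
    |>.join (Iv.of_chk trio6_11)
    |>.join (Iv.of_chk trio6_12)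
    |>.join (Iv.of_chk trio6_13)
    |>.join (Iv.of_chk trio6_14)
    |>.join (Iv.of_chk trio6_15)
    |>.join (Iv.of_chk trio6_16)
    |>.join (Iv.of_chk trio6_17)
    |>.join (Iv.of_chk trio6_18)

theorem sel6_0 : chk (okSel D C 6) 0 301 = true := by decide +kernel

theorem sel6 : Iv (okSel D C 6) 0 301 :=
  (Iv.of_chk sel6_0)

theorem v6_0_0 : chk (okV D C 6 0) 0 512 = true := by decide +kernel

theorem v6_0_1 : chk (okV D C 6 0) 512 512 = true := by decide +kernel

theorem v6_0_2 : chk (okV D C 6 0) 1024 512 = true := by decide +kernel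

theorem v6_0_3 : chk (okV D C 6 0) 1536 512 = true := by decide +kernel

theorem v6_0 : Iv (okV D C 6 0) 0 2048 :=
  (Iv.of_chk v6_0_0)
    |>.join (Iv.of_chk v6_0_1)
    |>.join (Iv.of_chk v6_0_2)
    |>.join (Iv.of_chk v6_0_3)

theorem v6_1_0 : chk (okV D C 6 1) 0 512 = true := by decide +kernel

theorem v6_1_1 : chk (okV D C 6 1) 512 512 = true := by decide +kernel

theorem v6_1_2 : chk (okV D C 6 1) 1024 512 = true := by decide +kernel

theorem v6_1_3 : chk (okV D C 6 1) 1536 512 = true := by decide +kernel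

theorem v6_1 : Iv (okV D C 6 1) 0 2048 :=
  (Iv.of_chk v6_1_0)
    |>.join (Iv.of_chk v6_1_1)
    |>.join (Iv.of_chk v6_1_2)
    |>.join (Iv.of_chk v6_1_3)

theorem v6_2_0 : chk (okV D C 6 2) 0 512 = true := by decide +kernel

theorem v6_2_1 : chk (okV D C 6 2) 512 512 = true := by decide +kernel

theorem v6_2_2 : chk (okV D C 6 2) 1024 512 = true := by decide +kernel

theorem v6_2_3 : chk (okV D C 6 2) 1536 512 = true := by decide +kernel

theorem v6_2 : Iv (okV D C 6 2) 0 2048 :=
  (Iv.of_chk v6_2_0)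
    |>.join (Iv.of_chk v6_2_1)
    |>.join (Iv.of_chk v6_2_2)
    |>.join (Iv.of_chk v6_2_3)

theorem v6_3_0 : chk (okV D C 6 3) 0 512 = true := by decide +kernel

theorem v6_3_1 : chk (okV D C 6 3) 512 512 = true := by decide +kernel

theorem v6_3_2 : chk (okV D C 6 3) 1024 512 = true := by decide +kernel

theorem v6_3_3 : chk (okV D C 6 3) 1536 512 = true := by decide +kernel

theorem v6_3 : Iv (okV D C 6 3) 0 2048 :=
  (Iv.of_chk v6_3_0)
    |>.join (Iv.of_chk v6_3_1)
    |>.join (Iv.of_chk v6_3_2)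
    |>.join (Iv.of_chk v6_3_3)

theorem v6_4_0 : chk (okV D C 6 4) 0 512 = true := by decide +kernel

theorem v6_4_1 : chk (okV D C 6 4) 512 512 = true := by decide +kernel

theorem v6_4_2 : chk (okV D C 6 4) 1024 512 = true := by decide +kernel

theorem v6_4_3 : chk (okV D C 6 4) 1536 512 = true := by decide +kernel

theorem v6_4 : Iv (okV D C 6 4) 0 2048 :=
  (Iv.of_chk v6_4_0)
    |>.join (Iv.of_chk v6_4_1)
    |>.join (Iv.of_chk v6_4_2)
    |>.join (Iv.of_chk v6_4_3)

theorem v6_5_0 : chk (okV D C 6 5) 0 512 = true := by decide +kernel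

theorem v6_5_1 : chk (okV D C 6 5) 512 512 = true := by decide +kernel

theorem v6_5_2 : chk (okV D C 6 5) 1024 512 = true := by decide +kernel

theorem v6_5_3 : chk (okV D C 6 5) 1536 512 = true := by decide +kernel

theorem v6_5 : Iv (okV D C 6 5) 0 2048 :=
  (Iv.of_chk v6_5_0)
    |>.join (Iv.of_chk v6_5_1)
    |>.join (Iv.of_chk v6_5_2)
    |>.join (Iv.of_chk v6_5_3)

theorem roots6 : Iv (okRoot D C 6) 0 6 :=
  Iv.of_chk (p := okRoot D C 6) (a := 0) (k := 6) (by decide +kernel)

theorem chain6 : chainOK (sC C 6) (C.orb 6).levels = true ∧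
    chainProd (C.orb 6).levels * (C.orb 6).size = 501397585920 ∧ (C.orb 6).size = 82575360 := by decide +kernel

theorem rootsLen6 : (C.orb 6).roots.length = 6 ∧ (C.orb 6).selN = 301 := by decide +kernel

theorem vall6 : ∀ n, n < 6 → ∀ v, v < 2048 → okV D C 6 n v = true :=
  fun n hn => match n, hn with
  | 0, _ => Iv.all v6_0
  | 1, _ => Iv.all v6_1
  | 2, _ => Iv.all v6_2
  | 3, _ => Iv.all v6_3
  | 4, _ => Iv.all v6_4
  | 5, _ => Iv.all v6_5
  | k + 6, h => absurd h (by omega)

end Cfsg.Agent.Lib.J4Dce59.Check
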