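import Cfsg.Agent.Lib.J4Dce59.Cover
import Cfsg.Agent.Lib.J4Dce59.Check.Els
import Cfsg.Agent.Lib.J4Dce59.Check.Facts0
import Cfsg.Agent.Lib.J4Dce59.Check.Facts1
import Cfsg.Agent.Lib.J4Dce59.Check.Facts2
import Cfsg.Agent.Lib.J4Dce59.Check.Facts3
import Cfsg.Agent.Lib.J4Dce59.Check.Orb0
import Cfsg.Agent.Lib.J4Dce59.Check.Orb1
import Cfsg.Agent.Lib.J4Dce59.Check.Orb2
import Cfsg.Agent.Lib.J4Dce59.Check.Orb3
import Cfsg.Agent.Lib.J4Dce59.Check.Orb4
import Cfsg.Agent.Lib.J4Dce59.Check.Orb5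
import Cfsg.Agent.Lib.J4Dce59.Check.Orb6

/-! # Evaluation of the checker (All) -/

set_option autoImplicit false
set_option maxRecDepth 100000
set_option maxHeartbeats 0

namespace Cfsg.Agent.Lib.J4Dce59.Check

open Data

theorem len7 : C.orbs.length = 7 := by decide +kernel
theorem covOK : CovOK D C where
  els := ⟨fun n hn => Iv.all els n hn, fun n hn => Iv.all ks n hn⟩
  facts := fun n hn => Iv.all (((facts0.join facts1).join facts2).join facts3) n hn
  rep := rep
  len := by rw [len7]; norm_num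
  move := Iv.all move
  trio := fun j hj => match j, hj with
    | 0, _ => Iv.all trio0
    | 1, _ => Iv.all trio1
    | 2, _ => Iv.all trio2
    | 3, _ => Iv.all trio3
    | 4, _ => Iv.all trio4
    | 5, _ => Iv.all trio5
    | 6, _ => Iv.all trio6
    | k + 7, h => absurd h (by simp [len7])
  root := fun j hj => match j, hj with
    | 0, _ => fun n hn => Iv.all roots0 n (rootsLen0.1 ▸ hn)
    | 1, _ => fun n hn => Iv.all roots1 n (rootsLen1.1 ▸ hn)
    | 2, _ => fun n hn => Iv.all roots2 n (rootsLen2.1 ▸ hn)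
    | 3, _ => fun n hn => Iv.all roots3 n (rootsLen3.1 ▸ hn)
    | 4, _ => fun n hn => Iv.all roots4 n (rootsLen4.1 ▸ hn)
    | 5, _ => fun n hn => Iv.all roots5 n (rootsLen5.1 ▸ hn)
    | 6, _ => fun n hn => Iv.all roots6 n (rootsLen6.1 ▸ hn)
    | k + 7, h => absurd h (by simp [len7])
  v := fun j hj => match j, hj with
    | 0, _ => fun n hn => vall0 n (rootsLen0.1 ▸ hn)
    | 1, _ => fun n hn => vall1 n (rootsLen1.1 ▸ hn)
    | 2, _ => fun n hn => vall2 n (rootsLen2.1 ▸ hn)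
    | 3, _ => fun n hn => vall3 n (rootsLen3.1 ▸ hn)
    | 4, _ => fun n hn => vall4 n (rootsLen4.1 ▸ hn)
    | 5, _ => fun n hn => vall5 n (rootsLen5.1 ▸ hn)
    | 6, _ => fun n hn => vall6 n (rootsLen6.1 ▸ hn)
    | k + 7, h => absurd h (by simp [len7])
  sel := fun j hj => match j, hj with
    | 0, _ => fun n hn => Iv.all sel0 n (rootsLen0.2 ▸ hn)
    | 1, _ => fun n hn => Iv.all sel1 n (rootsLen1.2 ▸ hn)
    | 2, _ => fun n hn => Iv.all sel2 n (rootsLen2.2 ▸ hn)
    | 3, _ => fun n hn => Iv.all sel3 n (rootsLen3.2 ▸ hn)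
    | 4, _ => fun n hn => Iv.all sel4 n (rootsLen4.2 ▸ hn)
    | 5, _ => fun n hn => Iv.all sel5 n (rootsLen5.2 ▸ hn)
    | 6, _ => fun n hn => Iv.all sel6 n (rootsLen6.2 ▸ hn)
    | k + 7, h => absurd h (by simp [len7])
  chain := fun j hj => match j, hj with
    | 0, _ => chain0.1
    | 1, _ => chain1.1
    | 2, _ => chain2.1
    | 3, _ => chain3.1
    | 4, _ => chain4.1
    | 5, _ => chain5.1
    | 6, _ => chain6.1
    | k + 7, h => absurd h (by simp [len7])
  size := fun j hj => match j, hj with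
    | 0, _ => chain0.2.1
    | 1, _ => chain1.2.1
    | 2, _ => chain2.2.1
    | 3, _ => chain3.2.1
    | 4, _ => chain4.2.1
    | 5, _ => chain5.2.1
    | 6, _ => chain6.2.1
    | k + 7, h => absurd h (by simp [len7])

end Cfsg.Agent.Lib.J4Dce59.Check
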