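import Cfsg.Agent.Lib.J4Dce59.Chunk
import Cfsg.Agent.Lib.J4Dce59.Data.Main

/-! # Evaluation of the checker (Orb5) -/

set_option autoImplicit false
set_option maxRecDepth 100000
set_option maxHeartbeats 0

namespace Cfsg.Agent.Lib.J4Dce59.Check

open Data

theorem trio5_0 : chk (okTrio D C 5) 0 200 = true := by decide +kernel

theorem trio5_1 : chk (okTrio D C 5) 200 200 = true := by decide +kernel

theorem trio5_2 : chk (okTrio D C 5) 400 200 = true := by decide +kernel

theorem trio5_3 : chk (okTrio D C 5) 600 200 = true := by decide +kernel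

theorem trio5_4 : chk (okTrio D C 5) 800 200 = true := by decide +kernel

theorem trio5_5 : chk (okTrio D C 5) 1000 200 = true := by decide +kernel

theorem trio5_6 : chk (okTrio D C 5) 1200 200 = true := by decide +kernel

theorem trio5_7 : chk (okTrio D C 5) 1400 200 = true := by decide +kernel

theorem trio5_8 : chk (okTrio D C 5) 1600 200 = true := by decide +kernel

theorem trio5_9 : chk (okTrio D C 5) 1800 200 = true := by decide +kernel

theorem trio5_10 : chk (okTrio D C 5) 2000 200 = true := by decide +kernel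

theorem trio5_11 : chk (okTrio D C 5) 2200 200 = true := by decide +kernel

theorem trio5_12 : chk (okTrio D C 5) 2400 200 = true := by decide +kernel

theorem trio5_13 : chk (okTrio D C 5) 2600 200 = true := by decide +kernel

theorem trio5_14 : chk (okTrio D C 5) 2800 200 = true := by decide +kernel

theorem trio5_15 : chk (okTrio D C 5) 3000 200 = true := by decide +kernel

theorem trio5_16 : chk (okTrio D C 5) 3200 200 = true := by decide +kernel

theorem trio5_17 : chk (okTrio D C 5) 3400 200 = true := by decide +kernel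

theorem trio5_18 : chk (okTrio D C 5) 3600 195 = true := by decide +kernel

theorem trio5 : Iv (okTrio D C 5) 0 3795 :=
  (Iv.of_chk trio5_0)
    |>.join (Iv.of_chk trio5_1)
    |>.join (Iv.of_chk trio5_2)
    |>.join (Iv.of_chk trio5_3)
    |>.join (Iv.of_chk trio5_4)
    |>.join (Iv.of_chk trio5_5)
    |>.join (Iv.of_chk trio5_6)
    |>.join (Iv.of_chk trio5_7)
    |>.join (Iv.of_chk trio5_8)
    |>.join (Iv.of_chk trio5_9)
    |>.join (Iv.of_chk trio5_10)
    |>.join (Iv.of_chk trio5_11)
    |>.join (Iv.of_chk trio5_12)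
    |>.join (Iv.of_chk trio5_13)
    |>.join (Iv.of_chk trio5_14)
    |>.join (Iv.of_chk trio5_15)
    |>.join (Iv.of_chk trio5_16)
    |>.join (Iv.of_chk trio5_17)
    |>.join (Iv.of_chk trio5_18)

theorem sel5_0 : chk (okSel D C 5) 0 228 = true := by decide +kernel

theorem sel5 : Iv (okSel D C 5) 0 228 :=
  (Iv.of_chk sel5_0)

theorem v5_0_0 : chk (okV D C 5 0) 0 512 = true := by decide +kernel

theorem v5_0_1 : chk (okV D C 5 0) 512 512 = true := by decide +kernel

theorem v5_0_2 : chk (okV D C 5 0) 1024 512 = true := by decide +kernel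

theorem v5_0_3 : chk (okV D C 5 0) 1536 512 = true := by decide +kernel

theorem v5_0 : Iv (okV D C 5 0) 0 2048 :=
  (Iv.of_chk v5_0_0)
    |>.join (Iv.of_chk v5_0_1)
    |>.join (Iv.of_chk v5_0_2)
    |>.join (Iv.of_chk v5_0_3)

theorem v5_1_0 : chk (okV D C 5 1) 0 512 = true := by decide +kernel

theorem v5_1_1 : chk (okV D C 5 1) 512 512 = true := by decide +kernel

theorem v5_1_2 : chk (okV D C 5 1) 1024 512 = true := by decide +kernel

theorem v5_1_3 : chk (okV D C 5 1) 1536 512 = true := by decide +kernel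

theorem v5_1 : Iv (okV D C 5 1) 0 2048 :=
  (Iv.of_chk v5_1_0)
    |>.join (Iv.of_chk v5_1_1)
    |>.join (Iv.of_chk v5_1_2)
    |>.join (Iv.of_chk v5_1_3)

theorem v5_2_0 : chk (okV D C 5 2) 0 512 = true := by decide +kernel

theorem v5_2_1 : chk (okV D C 5 2) 512 512 = true := by decide +kernel

theorem v5_2_2 : chk (okV D C 5 2) 1024 512 = true := by decide +kernel

theorem v5_2_3 : chk (okV D C 5 2) 1536 512 = true := by decide +kernel

theorem v5_2 : Iv (okV D C 5 2) 0 2048 :=
  (Iv.of_chk v5_2_0)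
    |>.join (Iv.of_chk v5_2_1)
    |>.join (Iv.of_chk v5_2_2)
    |>.join (Iv.of_chk v5_2_3)

theorem v5_3_0 : chk (okV D C 5 3) 0 512 = true := by decide +kernel

theorem v5_3_1 : chk (okV D C 5 3) 512 512 = true := by decide +kernel

theorem v5_3_2 : chk (okV D C 5 3) 1024 512 = true := by decide +kernel

theorem v5_3_3 : chk (okV D C 5 3) 1536 512 = true := by decide +kernel

theorem v5_3 : Iv (okV D C 5 3) 0 2048 :=
  (Iv.of_chk v5_3_0)
    |>.join (Iv.of_chk v5_3_1)
    |>.join (Iv.of_chk v5_3_2)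
    |>.join (Iv.of_chk v5_3_3)

theorem v5_4_0 : chk (okV D C 5 4) 0 512 = true := by decide +kernel

theorem v5_4_1 : chk (okV D C 5 4) 512 512 = true := by decide +kernel

theorem v5_4_2 : chk (okV D C 5 4) 1024 512 = true := by decide +kernel

theorem v5_4_3 : chk (okV D C 5 4) 1536 512 = true := by decide +kernel

theorem v5_4 : Iv (okV D C 5 4) 0 2048 :=
  (Iv.of_chk v5_4_0)
    |>.join (Iv.of_chk v5_4_1)
    |>.join (Iv.of_chk v5_4_2)
    |>.join (Iv.of_chk v5_4_3)

theorem v5_5_0 : chk (okV D C 5 5) 0 512 = true := by decide +kernel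

theorem v5_5_1 : chk (okV D C 5 5) 512 512 = true := by decide +kernel

theorem v5_5_2 : chk (okV D C 5 5) 1024 512 = true := by decide +kernel

theorem v5_5_3 : chk (okV D C 5 5) 1536 512 = true := by decide +kernel

theorem v5_5 : Iv (okV D C 5 5) 0 2048 :=
  (Iv.of_chk v5_5_0)
    |>.join (Iv.of_chk v5_5_1)
    |>.join (Iv.of_chk v5_5_2)
    |>.join (Iv.of_chk v5_5_3)

theorem v5_6_0 : chk (okV D C 5 6) 0 512 = true := by decide +kernel

theorem v5_6_1 : chk (okV D C 5 6) 512 512 = true := by decide +kernel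

theorem v5_6_2 : chk (okV D C 5 6) 1024 512 = true := by decide +kernel

theorem v5_6_3 : chk (okV D C 5 6) 1536 512 = true := by decide +kernel

theorem v5_6 : Iv (okV D C 5 6) 0 2048 :=
  (Iv.of_chk v5_6_0)
    |>.join (Iv.of_chk v5_6_1)
    |>.join (Iv.of_chk v5_6_2)
    |>.join (Iv.of_chk v5_6_3)

theorem v5_7_0 : chk (okV D C 5 7) 0 512 = true := by decide +kernel

theorem v5_7_1 : chk (okV D C 5 7) 512 512 = true := by decide +kernel

theorem v5_7_2 : chk (okV D C 5 7) 1024 512 = true := by decide +kernel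

theorem v5_7_3 : chk (okV D C 5 7) 1536 512 = true := by decide +kernel

theorem v5_7 : Iv (okV D C 5 7) 0 2048 :=
  (Iv.of_chk v5_7_0)
    |>.join (Iv.of_chk v5_7_1)
    |>.join (Iv.of_chk v5_7_2)
    |>.join (Iv.of_chk v5_7_3)

theorem v5_8_0 : chk (okV D C 5 8) 0 512 = true := by decide +kernel

theorem v5_8_1 : chk (okV D C 5 8) 512 512 = true := by decide +kernel

theorem v5_8_2 : chk (okV D C 5 8) 1024 512 = true := by decide +kernel

theorem v5_8_3 : chk (okV D C 5 8) 1536 512 = true := by decide +kernel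

theorem v5_8 : Iv (okV D C 5 8) 0 2048 :=
  (Iv.of_chk v5_8_0)
    |>.join (Iv.of_chk v5_8_1)
    |>.join (Iv.of_chk v5_8_2)
    |>.join (Iv.of_chk v5_8_3)

theorem v5_9_0 : chk (okV D C 5 9) 0 512 = true := by decide +kernel

theorem v5_9_1 : chk (okV D C 5 9) 512 512 = true := by decide +kernel

theorem v5_9_2 : chk (okV D C 5 9) 1024 512 = true := by decide +kernel

theorem v5_9_3 : chk (okV D C 5 9) 1536 512 = true := by decide +kernel

theorem v5_9 : Iv (okV D C 5 9) 0 2048 :=
  (Iv.of_chk v5_9_0)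
    |>.join (Iv.of_chk v5_9_1)
    |>.join (Iv.of_chk v5_9_2)
    |>.join (Iv.of_chk v5_9_3)

theorem roots5 : Iv (okRoot D C 5) 0 10 :=
  Iv.of_chk (p := okRoot D C 5) (a := 0) (k := 10) (by decide +kernel)

theorem chain5 : chainOK (sC C 5) (C.orb 5).levels = true ∧
    chainProd (C.orb 5).levels * (C.orb 5).size = 501397585920 ∧ (C.orb 5).size = 54405120 := by decide +kernel

theorem rootsLen5 : (C.orb 5).roots.length = 10 ∧ (C.orb 5).selN = 228 := by decide +kernel

theorem vall5 : ∀ n, n < 10 → ∀ v, v < 2048 → okV D C 5 n v = true :=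
  fun n hn => match n, hn with
  | 0, _ => Iv.all v5_0
  | 1, _ => Iv.all v5_1
  | 2, _ => Iv.all v5_2
  | 3, _ => Iv.all v5_3
  | 4, _ => Iv.all v5_4
  | 5, _ => Iv.all v5_5
  | 6, _ => Iv.all v5_6
  | 7, _ => Iv.all v5_7
  | 8, _ => Iv.all v5_8
  | 9, _ => Iv.all v5_9
  | k + 10, h => absurd h (by omega)

end Cfsg.Agent.Lib.J4Dce59.Check
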